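import Groth.Agent.CurveH2Lib.PicModN
import Groth.Agent.S0227
import Groth.Agent.S15401

/-!
# The second étale cohomology of roots of unity on a curve
-/

set_option autoImplicit false
set_option linter.style.haveILetI false
set_option linter.unusedSectionVars false
set_option backward.isDefEq.respectTransparency false
set_option backward.isDefEq.respectTransparency.types false
set_option maxHeartbeats 1000000

universe u

open CategoryTheory CategoryTheory.Limits AlgebraicGeometry Opposite CategoryTheory.Abelian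

noncomputable section

namespace CurveH2Lib

/-- Kummer theory: when `H^2(G_m)` vanishes, `H^2(μ_n)` is the Picard group modulo `n`. -/
theorem exists_connecting (X : Scheme.{u}) {n : ℕ} (hX : Dix.InvertibleOn X n)
    (h2 : Subsingleton (EtCoh.H X (EtCoh.Gm X) 2)) :
    ∃ δ : EtCoh.H X (EtCoh.Gm X) 1 →+ EtCoh.H X (EtCoh.mu X n) 2, Function.Surjective δ ∧
      ∀ ξ, δ ξ = 0 ↔ ∃ η, n • η = ξ := by
  have h := EtKummerLib.kummer_shortExact hX
  refine ⟨AddMonoidHom.mk' (fun ξ => ξ.comp h.extClass rfl) (fun a b => Ext.add_comp _ _ _ _), fun y => ?_, fun ξ => ?_⟩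
  · obtain ⟨z, hz⟩ := Ext.covariant_sequence_exact₁ _ h y (Subsingleton.elim (α := EtCoh.H X (EtCoh.Gm X) 2) _ _) (n₀ := 1) rfl
    exact ⟨z, hz⟩
  · constructor
    · intro hξ
      obtain ⟨η, hη⟩ := Ext.covariant_sequence_exact₃ _ h ξ (n₁ := 1 + 1) rfl hξ
      exact ⟨η, (EtTransferLib.comp_mk₀_nsmul η n).symm.trans hη⟩
    · rintro ⟨η, rfl⟩
      show Ext.comp (n • η) h.extClass rfl = 0
      have e : (Ext.comp η (Ext.mk₀ (EtCoh.powMap X n)) (add_zero 1)) = n • η :=
        EtTransferLib.comp_mk₀_nsmul η n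
      rw [← e, Ext.comp_assoc_of_second_deg_zero]
      exact (congrArg (fun r => Ext.comp η r _) h.comp_extClass).trans (Ext.comp_zero _ _ _ _ _)

theorem nonempty_H2_mu (k : Type u) [Field k] [IsAlgClosed k] (X : Scheme.{u}) [X.Over (Spec (CommRingCat.of k))]
    [IsIntegral X] [IsProper (X ↘ Spec (CommRingCat.of k))] [Smooth (X ↘ Spec (CommRingCat.of k))]
    (hdim : topologicalKrullDim ↥X = 1) (n : ℕ) (hn : (n : k) ≠ 0) :
    Nonempty (EtCoh.H X (EtCoh.mu X n) 2 ≃+ ZMod n) := by
  haveI : CompactSpace X := QuasiCompact.compactSpace_of_compactSpace (X ↘ Spec (CommRingCat.of k))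
  haveI : QuasiSeparatedSpace X := quasiSeparatedSpace_of_quasiSeparated (X ↘ Spec (CommRingCat.of k))
  have hn0 : 0 < n := Nat.pos_of_ne_zero fun e => hn (by rw [e, Nat.cast_zero])
  letI := LMLib.law X
  obtain ⟨e⟩ := Groth.Agent.S15401.result X
  obtain ⟨D, hD, hDk⟩ := exists_degree_mod k X hdim hn0
  obtain ⟨δ, hδ, hδk⟩ := exists_connecting X (JacTorsLib.invertibleOn_of_field (X ↘ Spec (CommRingCat.of k)) hn)
    (Groth.Agent.S0227.result k X (X ↘ Spec (CommRingCat.of k)) hdim 2 le_rfl)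
  let Φ := δ.comp e.toAddMonoidHom
  have hΦ : Function.Surjective Φ := hδ.comp e.surjective
  have hker : Φ.ker = D.ker := by
    refine AddSubgroup.ext fun a => ?_
    show δ (e a) = 0 ↔ D a = 0
    rw [hδk, hDk]
    constructor
    · rintro ⟨η, hη⟩
      exact ⟨e.symm η, e.injective (by rw [map_nsmul, e.apply_symm_apply, hη])⟩
    · rintro ⟨b, rfl⟩
      exact ⟨e b, (map_nsmul e n b).symm⟩
  exact ⟨(QuotientAddGroup.quotientKerEquivOfSurjective Φ hΦ).symm.trans
    ((QuotientAddGroup.quotientAddEquivOfEq hker).trans (QuotientAddGroup.quotientKerEquivOfSurjective D hD))⟩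

/-- Over an algebraically closed field `μ_n` is constant. -/
theorem mu_iso_const (k : Type u) [Field k] [IsAlgClosed k] {X : Scheme.{u}} (f : X ⟶ Spec (CommRingCat.of k))
    (n : ℕ) (hn : (n : k) ≠ 0) : Nonempty (EtCoh.mu X n ≅ EtCoh.const X (ZMod n)) := by
  have hn0 : 0 < n := Nat.pos_of_ne_zero fun e => hn (by rw [e, Nat.cast_zero])
  let φ : k →+* Γ(X, ⊤) := ((Scheme.ΓSpecIso (CommRingCat.of k)).inv ≫ f.appTop).hom
  haveI : NeZero (n : k) := ⟨hn⟩
  obtain ⟨ζ, hζ⟩ := HasEnoughRootsOfUnity.exists_primitiveRoot k n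
  have h0 : Polynomial.aeval ζ (Polynomial.cyclotomic n ℤ) = 0 := by
    have h := hζ.isRoot_cyclotomic hn0
    rw [Polynomial.IsRoot.def, ← Polynomial.map_cyclotomic n (Int.castRingHom k), Polynomial.eval_map] at h
    exact h
  refine MuConstLib.mu_iso_const X n hn0 ?_ (φ ζ) ?_
  · have := (isUnit_iff_ne_zero.2 hn).map φ
    rwa [map_natCast] at this
  · rw [← RingHom.map_zero φ, ← h0]
    exact Polynomial.aeval_algHom_apply φ.toIntAlgHom ζ _

end CurveH2Lib
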