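import Groth.Agent.CurveH2Lib.Main
import Groth.Agent.S0234
import Groth.Agent.S0203
import Groth.Agent.VertChiLib.PicTorsion
import Groth.Agent.GenusZeroLib.PointDown
import Groth.Agent.VarDimLib.Basic
import Groth.Agent.CurvFieldLib.Basic

/-!
# Roots of unity on an affine curve
-/

set_option autoImplicit false
set_option linter.style.haveILetI false
set_option linter.unusedSectionVars false
set_option backward.isDefEq.respectTransparency false
set_option backward.isDefEq.respectTransparency.types false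
set_option maxHeartbeats 1000000

universe u

open CategoryTheory CategoryTheory.Limits AlgebraicGeometry Opposite CategoryTheory.Abelian TopologicalSpace

noncomputable section

namespace CurveH2Lib

theorem injective_app_of_mono {X : Scheme.{u}} {L M : X.Modules} (q : L ⟶ M) [Mono q] (V : X.Opens) :
    Function.Injective (q.app V) := by
  haveI : PreservesFiniteLimits (Scheme.Modules.toPresheaf X) := PreservesLimitsOfSize.preservesFiniteLimits _
  haveI : Mono ((Scheme.Modules.toPresheaf X).map q) := Functor.map_mono _ q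
  haveI : Mono (((Scheme.Modules.toPresheaf X).map q).app (op V)) := inferInstance
  exact (AddCommGrpCat.mono_iff_injective _).1 ‹_›

variable (k : Type u) [Field k] [IsAlgClosed k] (X : Scheme.{u}) [X.Over (Spec (CommRingCat.of k))]
  [IsIntegral X] [IsProper (X ↘ Spec (CommRingCat.of k))] [Smooth (X ↘ Spec (CommRingCat.of k))]
  (hdim : topologicalKrullDim ↥X = 1)

include k hdim in
/-- A class of degree minus one which is trivial away from a closed point. -/
theorem exists_point_class {s : X} (hs : IsClosed ({s} : Set X)) (U : X.Opens) (hsU : s ∉ U) :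
    ∃ (L : X.Modules) (_ : PicF.IsInvertible L), Curv2.deg k X L 1 = -1 ∧
      Nonempty (L.restrict U.ι ≅ (Coh.structureModule X).restrict U.ι) := by
  haveI := HurwitzLib.dvr_stalk_closed (k := k) hdim hs
  obtain ⟨L, q, hL, hq, hd, hrange⟩ :=
    GenusZeroLib.exists_twist_down (k := k) hdim hs CurvLib.isInvertible_structureModule
  haveI : Mono q := CurvLib.mono_of_ne_zero hL CurvLib.isInvertible_structureModule hq
  have hres : (letI : Algebra k (X.residueField s) := Curv2.resAlgebra k X s;
      Module.finrank k (X.residueField s)) = 1 := by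
    letI : Algebra k (X.residueField s) := Curv2.resAlgebra k X s
    haveI := HurwitzLib.finite_residueField (k := k) hs
    exact ((LinearEquiv.ofBijective (Algebra.linearMap k (X.residueField s))
      IsAlgClosed.algebraMap_bijective_of_isIntegral).finrank_eq).symm.trans (Module.finrank_self k)
  rw [hres, Nat.cast_one, show Curv2.deg k X (Coh.structureModule X) 1 = 0 by rw [Curv2.deg]; push_cast; ring] at hd
  refine ⟨L, hL, hd.trans (by norm_num), ⟨?_⟩⟩
  haveI : IsIso ((Scheme.Modules.restrictFunctor U.ι).map q) := by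
    rw [Scheme.Modules.Hom.isIso_iff_isIso_app]
    intro V
    rw [ConcreteCategory.isIso_iff_bijective]
    refine ⟨injective_app_of_mono q (U.ι ''ᵁ V), fun σ => (hrange (U.ι ''ᵁ V) σ).2 fun h => ?_⟩
    exact absurd (Scheme.Opens.ι_image_le U V h) hsU
  exact asIso ((Scheme.Modules.restrictFunctor U.ι).map q)

include k hdim in
/-- The Picard group of a proper open subset of the curve is divisible. -/
theorem exists_pow_eq_pic_open (U : X.Opens) {s : X} (hs : IsClosed ({s} : Set X)) (hsU : s ∉ U)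
    (hfin : ((U : Set X)ᶜ).Finite) (hclosed : ∀ x ∉ U, IsClosed ({x} : Set X)) {n : ℕ} (hn : 0 < n)
    [PicGrp.Law X] [PicGrp.Law (U : Scheme.{u})] (a : PicLoc.PicSet (U : Scheme.{u})) :
    ∃ b, b ^ n = a := by
  haveI : IsLocallyNoetherian X := LocallyOfFiniteType.isLocallyNoetherian (X ↘ Spec (CommRingCat.of k))
  obtain ⟨M, hM, rfl⟩ := PicGrp.exists_eq_cls a
  obtain ⟨L, hL, ⟨e⟩⟩ := Groth.Agent.S0234.result X U M hM fun x hx => by
    haveI := HurwitzLib.dvr_stalk_closed (k := k) hdim (hclosed x hx)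
    infer_instance
  obtain ⟨P, hP, hPd, ⟨eP⟩⟩ := exists_point_class k X hdim hs U hsU
  let r := PicGrp.pullHom U.ι (VertChiLib.pullMul U.ι)
  have hrL : r (PicGrp.cls L hL) = PicGrp.cls M hM :=
    Subtype.ext (Quot.sound ⟨((Scheme.Modules.restrictFunctorIsoPullback U.ι).app L).symm ≪≫ e⟩)
  have hrP : r (PicGrp.cls P hP) = 1 := by
    rw [← map_one r, ← PicGrp.cls_structureModule_eq_one]
    exact Subtype.ext (Quot.sound ⟨((Scheme.Modules.restrictFunctorIsoPullback U.ι).app P).symm ≪≫ eP ≪≫
      (Scheme.Modules.restrictFunctorIsoPullback U.ι).app _⟩)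
  let d : Additive (PicLoc.PicSet X) →+ ℤ :=
    AddMonoidHom.mk' (fun a => degCl k X a.toMul) fun a b => degCl_mul k X hdim a.toMul b.toMul
  let l : Additive (PicLoc.PicSet X) := Additive.ofMul (PicGrp.cls L hL)
  let p : Additive (PicLoc.PicSet X) := Additive.ofMul (PicGrp.cls P hP)
  have hp : d p = -1 := (degCl_cls k X hP).trans hPd
  have h0 : d (l + d l • p) = 0 := by rw [map_add, map_zsmul, hp, smul_eq_mul, mul_neg, mul_one, add_neg_cancel]
  obtain ⟨b, hb⟩ := exists_pow_eq_of_degCl k X hdim hn (l + d l • p).toMul h0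
  refine ⟨r b, ?_⟩
  rw [← map_pow, hb, toMul_add, toMul_zsmul, map_mul, map_zpow]
  show r (PicGrp.cls L hL) * r (PicGrp.cls P hP) ^ _ = _
  rw [hrL, hrP, one_zpow, mul_one]

include k hdim in
theorem subsingleton_H2_mu_open (U : X.Opens) {s : X} (hs : IsClosed ({s} : Set X)) (hsU : s ∉ U)
    (hfin : ((U : Set X)ᶜ).Finite) (hclosed : ∀ x ∉ U, IsClosed ({x} : Set X))
    [Nonempty (U : Scheme.{u})] (n : ℕ) (hn : (n : k) ≠ 0) :
    Subsingleton (EtCoh.H (U : Scheme.{u}) (EtCoh.mu (U : Scheme.{u}) n) 2) := by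
  haveI : IsIntegral (U : Scheme.{u}) := isIntegral_of_isOpenImmersion U.ι
  haveI : IsLocallyNoetherian X := LocallyOfFiniteType.isLocallyNoetherian (X ↘ Spec (CommRingCat.of k))
  haveI : CompactSpace X := QuasiCompact.compactSpace_of_compactSpace (X ↘ Spec (CommRingCat.of k))
  haveI : IsNoetherian X := ⟨⟩
  haveI : CompactSpace (U : Scheme.{u}) := isCompact_iff_compactSpace.1 (NoetherianSpace.isCompact _)
  haveI : QuasiSeparatedSpace (U : Scheme.{u}) := inferInstance
  have hn0 : 0 < n := Nat.pos_of_ne_zero fun e => hn (by rw [e, Nat.cast_zero])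
  let f := U.ι ≫ (X ↘ Spec (CommRingCat.of k))
  haveI : QuasiCompact f := HasAffineProperty.iff_of_isAffine.2 ‹CompactSpace (U : Scheme.{u})›
  have hdimU : topologicalKrullDim (U : Scheme.{u}) = 1 := by
    obtain ⟨y⟩ := ‹Nonempty (U : Scheme.{u})›
    exact (VarDimLib.dim_open_eq (X ↘ Spec (CommRingCat.of k)) U ⟨y.1, y.2⟩).trans hdim
  letI := LMLib.law X
  letI := LMLib.law (U : Scheme.{u})
  obtain ⟨e⟩ := Groth.Agent.S15401.result (U : Scheme.{u})
  obtain ⟨δ, hδ, hδk⟩ := exists_connecting (U : Scheme.{u}) (JacTorsLib.invertibleOn_of_field f hn)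
    (Groth.Agent.S0227.result k (U : Scheme.{u}) f hdimU 2 le_rfl)
  refine subsingleton_of_forall_eq 0 fun y => ?_
  obtain ⟨ξ, rfl⟩ := hδ y
  obtain ⟨b, hb⟩ := exists_pow_eq_pic_open k X hdim U hs hsU hfin hclosed hn0 (e.symm ξ).toMul
  refine (hδk ξ).2 ⟨e (Additive.ofMul b), ?_⟩
  rw [← map_nsmul, ← ofMul_pow, hb]
  exact e.apply_symm_apply ξ

include k hdim in
theorem false_of_finite [Finite X] : False := by
  haveI : JacobsonSpace X := LocallyOfFiniteType.jacobsonSpace (X ↘ Spec (CommRingCat.of k))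
  haveI : DiscreteTopology X := discreteTopology_iff_forall_isClosed.2 fun s =>
    (Set.biUnion_of_singleton s) ▸ s.toFinite.isClosed_biUnion fun x _ =>
      CurvFieldLib.isClosed_singleton_of_mem_finite isClosed_univ Set.finite_univ (Set.mem_univ x)
  have : topologicalKrullDim X ≤ 0 := topologicalKrullDim_zero_of_discreteTopology X
  rw [hdim] at this
  exact absurd this (by norm_num)

theorem isTorsion_mu (Y : Scheme.{u}) {n : ℕ} (hn : 0 < n) : EtCoh.IsTorsion (EtCoh.mu Y n) := by
  intro U s y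
  refine ⟨U, 𝟙 U, ⟨y, rfl⟩, isOfFinAddOrder_iff_nsmul_eq_zero.2 ⟨n, hn, ?_⟩⟩
  have h0 : (n • 𝟙 (EtCoh.mu Y n) : EtCoh.mu Y n ⟶ EtCoh.mu Y n) = 0 := EtKummerLib.nsmul_id_kernel (EtCoh.Gm Y) n
  have key : ∀ d : ℕ, (d • 𝟙 (EtCoh.mu Y n) : EtCoh.mu Y n ⟶ EtCoh.mu Y n).hom.app (op U) s = d • s := fun d => by
    induction d with
    | zero => rw [zero_smul, zero_smul]; rfl
    | succ d ih => rw [succ_nsmul, succ_nsmul, ← ih]; rfl
  rw [op_id, CategoryTheory.Functor.map_id, ConcreteCategory.id_apply, ← key, h0]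
  rfl

include k hdim in
theorem subsingleton_H_mu_gt_two (U : X.Opens) (n : ℕ) (hn : 1 ≤ n) (q : ℕ) (hq : 2 < q) :
    Subsingleton (EtCoh.H (U : Scheme.{u}) (EtCoh.mu (U : Scheme.{u}) n) q) := by
  haveI : IsLocallyNoetherian X := LocallyOfFiniteType.isLocallyNoetherian (X ↘ Spec (CommRingCat.of k))
  haveI : CompactSpace X := QuasiCompact.compactSpace_of_compactSpace (X ↘ Spec (CommRingCat.of k))
  haveI : IsNoetherian X := ⟨⟩
  haveI : CompactSpace (U : Scheme.{u}) := isCompact_iff_compactSpace.1 (NoetherianSpace.isCompact _)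
  let f := U.ι ≫ (X ↘ Spec (CommRingCat.of k))
  haveI : QuasiCompact f := HasAffineProperty.iff_of_isAffine.2 ‹CompactSpace (U : Scheme.{u})›
  exact Groth.Agent.S0203.result k (U : Scheme.{u}) f
    ((Topology.IsInducing.topologicalKrullDim_le U.ι.isEmbedding.isInducing).trans hdim.le) _ (isTorsion_mu _ hn) q hq

end CurveH2Lib
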