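import Groth.Agent.JacTorsLib.Et
import Groth.Agent.GenusOneSSLib.Main
import Groth.Agent.GenusZeroLib.Degrees
import Groth.Agent.AVAmpleLib.Torsion

/-!
# The Picard group of a curve modulo `n`
-/

set_option autoImplicit false
set_option linter.style.haveILetI false
set_option linter.unusedSectionVars false
set_option backward.isDefEq.respectTransparency false
set_option backward.isDefEq.respectTransparency.types false
set_option maxHeartbeats 1000000

universe u

open CategoryTheory CategoryTheory.Limits AlgebraicGeometry MonoidalCategory CartesianMonoidalCategory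
open CubeConsLib (IsoCls cl)
open PicCurveLib JacAlbLib JacTorsLib
open scoped MonObj

noncomputable section

namespace CurveH2Lib

variable (k : Type u) [Field k] [IsAlgClosed k] (X : Scheme.{u}) [X.Over (Spec (CommRingCat.of k))]
  [IsIntegral X] [IsProper (X ↘ Spec (CommRingCat.of k))] [Smooth (X ↘ Spec (CommRingCat.of k))]
  (hdim : topologicalKrullDim ↥X = 1)

/-- The degree of a class. -/
def degCl (a : PicLoc.PicSet X) : ℤ := Curv2.deg k X (PicGrp.exists_eq_cls a).choose 1

theorem degCl_cls {L : X.Modules} (hL : PicF.IsInvertible L) : degCl k X (PicGrp.cls L hL) = Curv2.deg k X L 1 := by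
  obtain ⟨hM, h⟩ := (PicGrp.exists_eq_cls (PicGrp.cls L hL)).choose_spec
  obtain ⟨e⟩ := (PicGrp.cls_eq_cls_iff hM hL).1 h.symm
  exact CurvLib.deg_congr (k := k) e 1

include k hdim in
theorem degCl_mul [PicGrp.Law X] (a b : PicLoc.PicSet X) : degCl k X (a * b) = degCl k X a + degCl k X b := by
  obtain ⟨L, hL, rfl⟩ := PicGrp.exists_eq_cls a
  obtain ⟨M, hM, rfl⟩ := PicGrp.exists_eq_cls b
  have h : PicGrp.cls L hL * PicGrp.cls M hM =
      PicGrp.cls (CohB1.tensorMod L M) (AmpleThLib.shT_isInvertible hL hM) :=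
    Subtype.ext (PicGrp.cls_mul_cls_val hL hM)
  rw [h, degCl_cls, degCl_cls, degCl_cls, GenusZeroLib.deg_tensor k hdim hL hM]

include k hdim in
/-- Classes of degree zero are divisible. -/
theorem exists_pow_eq_of_degCl [PicGrp.Law X] {n : ℕ} (hn : 0 < n) (a : PicLoc.PicSet X) (ha : degCl k X a = 0) :
    ∃ b : PicLoc.PicSet X, b ^ n = a := by
  haveI : GeometricallyIntegral (X ↘ Spec (CommRingCat.of k)) :=
    CurveBCLib.geometricallyIntegral_of_sepClosed (k := k) (X := X)
  haveI : GeometricallyConnected (X ↘ Spec (CommRingCat.of k)) :=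
    Groth.Agent.WeilRes.geometricallyConnected_of_geometricallyIrreducible _
  haveI : JacobsonSpace X := LocallyOfFiniteType.jacobsonSpace (X ↘ Spec (CommRingCat.of k))
  obtain ⟨p, -, hp⟩ := nonempty_inter_closedPoints (Z := (Set.univ : Set X)) ⟨genericPoint X, trivial⟩
    isClosed_univ.isLocallyClosed
  have hpc : IsClosed ({p} : Set X) := mem_closedPoints_iff.1 hp
  obtain ⟨J, gJ, cJ, pJ, sJ, iJ, c, hc, -⟩ := exists_rigJac (k := k) (C := X)
    (pointOfClosedPoint (X ↘ Spec (CommRingCat.of k)) p hpc) (pointOfClosedPoint_comp _ p hpc) hdim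
  have hf := fam (k := k) hdim
  obtain ⟨L, hL, rfl⟩ := PicGrp.exists_eq_cls a
  rw [degCl_cls] at ha
  obtain ⟨t, ht⟩ := exists_tcl_eq hdim hc hL ha
  obtain ⟨s, hs⟩ := AVAmpleLib.exists_pow_eq J hn t
  obtain ⟨b, hb⟩ := exists_picHom_eq (invC_tcl hdim hf hc s)
  refine ⟨b, picHom_injective X ?_⟩
  rw [map_pow, hb, ← tcl_pow hdim hc, hs, ht]
  rfl

include k hdim in
/-- The Picard group modulo `n` is `ℤ/n`, through the degree. -/
theorem exists_degree_mod [PicGrp.Law X] {n : ℕ} (hn : 0 < n) :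
    ∃ D : Additive (PicLoc.PicSet X) →+ ZMod n, Function.Surjective D ∧
      ∀ a, D a = 0 ↔ ∃ b, n • b = a := by
  haveI : GeometricallyIntegral (X ↘ Spec (CommRingCat.of k)) :=
    CurveBCLib.geometricallyIntegral_of_sepClosed (k := k) (X := X)
  haveI : GeometricallyConnected (X ↘ Spec (CommRingCat.of k)) :=
    Groth.Agent.WeilRes.geometricallyConnected_of_geometricallyIrreducible _
  let d : Additive (PicLoc.PicSet X) →+ ℤ :=
    AddMonoidHom.mk' (fun a => degCl k X a.toMul) fun a b => degCl_mul k X hdim a.toMul b.toMul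
  obtain ⟨P, hP, hPd⟩ := GenusOneSSLib.exists_invertible_deg (k := k) (X := X) hdim 1
  let p : Additive (PicLoc.PicSet X) := Additive.ofMul (PicGrp.cls P hP)
  have hp : d p = 1 := (degCl_cls k X hP).trans hPd
  refine ⟨(Int.castAddHom (ZMod n)).comp d, fun z => ?_, fun a => ⟨fun ha => ?_, ?_⟩⟩
  · obtain ⟨i, rfl⟩ := ZMod.intCast_surjective z
    refine ⟨i • p, ?_⟩
    show ((d (i • p) : ℤ) : ZMod n) = _
    rw [map_zsmul, hp, smul_eq_mul, mul_one]
  · obtain ⟨m, hm⟩ := (ZMod.intCast_zmod_eq_zero_iff_dvd (d a) n).1 ha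
    have h0 : d (a - ((n : ℤ) * m) • p) = 0 := by
      rw [map_sub, map_zsmul, hp, smul_eq_mul, mul_one, hm, sub_self]
    obtain ⟨b, hb⟩ := exists_pow_eq_of_degCl k X hdim hn (a - ((n : ℤ) * m) • p).toMul h0
    refine ⟨Additive.ofMul b + m • p, ?_⟩
    have hb' : n • Additive.ofMul b = a - ((n : ℤ) * m) • p := by rw [← ofMul_pow, hb]; rfl
    rw [smul_add, hb', ← natCast_zsmul, ← mul_zsmul', mul_comm m]
    abel
  · rintro ⟨b, rfl⟩
    show ((d (n • b) : ℤ) : ZMod n) = 0
    rw [map_nsmul, nsmul_eq_mul, Int.cast_mul, Int.cast_natCast, ZMod.natCast_self, zero_mul]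

end CurveH2Lib
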